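import Mathlib
import Groth.Agent.Lib.Helper8.GorFlat4
import Groth.Agent.Lib.Helper8.GorFlat5

set_option autoImplicit false
set_option linter.unusedSectionVars false
set_option linter.unusedVariables false
set_option linter.unusedSimpArgs false
set_option linter.style.haveILetI false
set_option linter.overlappingInstances false
set_option maxHeartbeats 800000

/-!
# Homogeneous localization at a relevant prime admitting a unit of degree one

If `f ∈ 𝒜 d` and `g ∈ 𝒜 (d+1)` lie outside the homogeneous prime `p`, then `A_p` is a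
localization of the polynomial ring `A_(p)[X]` (`X ↦ g/f`), hence flat over `A_(p)`.
-/

open Polynomial HomogeneousLocalization

universe u

noncomputable section

namespace Groth.Agent.Lib.Helper6.HLoc

variable {A : Type u} [CommRing A] {σ : Type*} [SetLike σ A] [AddSubgroupClass σ A]
  (𝒜 : ℕ → σ) [GradedRing 𝒜] (p : Ideal A) [hp : p.IsPrime]

/-- homogeneous elements of consecutive degrees outside `p` -/
structure UData where
  d : ℕ
  f : A
  g : A
  hf : f ∈ 𝒜 d
  hg : g ∈ 𝒜 (d + 1)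
  hfp : f ∉ p
  hgp : g ∉ p

namespace UData

variable {𝒜 p} (U : UData 𝒜 p)

/-- `f/g` -/
def τ : Localization.AtPrime p := Localization.mk U.f ⟨U.g, U.hgp⟩

/-- `g/f` -/
def t : Localization.AtPrime p := Localization.mk U.g ⟨U.f, U.hfp⟩

theorem τ_mul_t : U.τ * U.t = 1 := by
  rw [τ, t, Localization.mk_mul]
  rw [show U.f * U.g = ((⟨U.g, U.hgp⟩ * ⟨U.f, U.hfp⟩ : p.primeCompl) : A) from mul_comm _ _]
  exact Localization.mk_self _

theorem g_mul_τ : algebraMap A (Localization.AtPrime p) U.g * U.τ =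
    algebraMap A (Localization.AtPrime p) U.f := by
  rw [τ, Localization.mk_eq_mk']
  exact IsLocalization.mk'_spec' (Localization.AtPrime p) U.f (⟨U.g, U.hgp⟩ : p.primeCompl)

theorem den_mul_mk (a s : A) (hs : s ∈ p.primeCompl) :
    algebraMap A (Localization.AtPrime p) s * Localization.mk a ⟨s, hs⟩ =
      algebraMap A (Localization.AtPrime p) a := by
  rw [Localization.mk_eq_mk']
  exact IsLocalization.mk'_spec' (Localization.AtPrime p) a (⟨s, hs⟩ : p.primeCompl)

/-- `a ↦ a f^n / g^n` on `𝒜 n` -/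
def q (n : ℕ) (a : 𝒜 n) : AtPrime 𝒜 p :=
  HomogeneousLocalization.mk
    { deg := n * (U.d + 1)
      num := ⟨(a : A) * U.f ^ n, by
        have h1 := SetLike.pow_mem_graded n U.hf
        have h2 := SetLike.mul_mem_graded a.2 h1
        have e : n + n • U.d = n * (U.d + 1) := by rw [smul_eq_mul]; ring
        exact e ▸ h2⟩
      den := ⟨U.g ^ n, by
        have h1 := SetLike.pow_mem_graded n U.hg
        have e : n • (U.d + 1) = n * (U.d + 1) := smul_eq_mul _ _
        exact e ▸ h1⟩
      den_mem := fun h => U.hgp (hp.mem_of_pow_mem n h) }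

theorem val_q (n : ℕ) (a : 𝒜 n) :
    (U.q n a).val = algebraMap A (Localization.AtPrime p) (a : A) * U.τ ^ n := by
  rw [q, HomogeneousLocalization.val_mk, τ, Localization.mk_pow,
    ← Localization.mk_one_eq_algebraMap, Localization.mk_mul]
  congr 1
  ext
  simp

theorem q_add (n : ℕ) (a b : 𝒜 n) : U.q n (a + b) = U.q n a + U.q n b := by
  apply HomogeneousLocalization.val_injective
  rw [HomogeneousLocalization.val_add, val_q, val_q, val_q, AddMemClass.coe_add, map_add, add_mul]

theorem q_zero (n : ℕ) : U.q n 0 = 0 := by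
  apply HomogeneousLocalization.val_injective
  rw [HomogeneousLocalization.val_zero, val_q, ZeroMemClass.coe_zero, map_zero, zero_mul]

/-- the additive maps `𝒜 n → A_(p)[X]`, `a ↦ (a τ^n) X^n` -/
def φ (n : ℕ) : 𝒜 n →+ (AtPrime 𝒜 p)[X] where
  toFun a := Polynomial.monomial n (U.q n a)
  map_zero' := by rw [q_zero, map_zero]
  map_add' a b := by rw [q_add, map_add]

theorem φ_one : U.φ 0 (GradedMonoid.GOne.one (A := fun i : ℕ => ↥(𝒜 i))) = 1 := by
  show Polynomial.monomial 0 (U.q 0 (GradedMonoid.GOne.one (A := fun i : ℕ => ↥(𝒜 i)))) = 1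
  have : U.q 0 (GradedMonoid.GOne.one (A := fun i : ℕ => ↥(𝒜 i))) = 1 := by
    apply HomogeneousLocalization.val_injective
    rw [val_q, HomogeneousLocalization.val_one, pow_zero, mul_one, SetLike.coe_gOne, map_one]
  rw [this]
  rfl

theorem φ_mul {i j : ℕ} (a : 𝒜 i) (b : 𝒜 j) :
    U.φ (i + j) (GradedMonoid.GMul.mul (A := fun i : ℕ => ↥(𝒜 i)) a b) = U.φ i a * U.φ j b := by
  show Polynomial.monomial (i + j) (U.q (i + j) (GradedMonoid.GMul.mul (A := fun i : ℕ => ↥(𝒜 i)) a b)) =
    Polynomial.monomial i (U.q i a) * Polynomial.monomial j (U.q j b)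
  rw [Polynomial.monomial_mul_monomial]
  congr 1
  apply HomogeneousLocalization.val_injective
  rw [HomogeneousLocalization.val_mul, val_q, val_q, val_q, SetLike.coe_gMul, map_mul, pow_add]
  ring

/-- the ring homomorphism `A → A_(p)[X]`, `a ↦ ∑ (a_n τ^n) X^n` -/
def ρ : A →+* (AtPrime 𝒜 p)[X] :=
  (DirectSum.toSemiring U.φ U.φ_one (fun a b => U.φ_mul a b)).comp
    (DirectSum.decomposeRingEquiv 𝒜).toRingHom

theorem ρ_of_mem {n : ℕ} {a : A} (ha : a ∈ 𝒜 n) :
    U.ρ a = Polynomial.monomial n (U.q n ⟨a, ha⟩) := by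
  show (DirectSum.toSemiring U.φ U.φ_one (fun a b => U.φ_mul a b))
    (DirectSum.decompose 𝒜 a) = _
  rw [DirectSum.decompose_of_mem 𝒜 ha, DirectSum.toSemiring_of]
  rfl

/-- evaluation `A_(p)[X] → A_p`, `X ↦ g/f` -/
def ev : (AtPrime 𝒜 p)[X] →+* Localization.AtPrime p :=
  Polynomial.eval₂RingHom (algebraMap (AtPrime 𝒜 p) (Localization.AtPrime p)) U.t

theorem ev_monomial (n : ℕ) (c : AtPrime 𝒜 p) :
    U.ev (Polynomial.monomial n c) = c.val * U.t ^ n := by
  rw [ev, Polynomial.coe_eval₂RingHom, Polynomial.eval₂_monomial]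
  rfl

theorem ev_ρ (a : A) : U.ev (U.ρ a) = algebraMap A (Localization.AtPrime p) a := by
  induction a using DirectSum.Decomposition.inductionOn 𝒜 with
  | zero => rw [map_zero, map_zero, map_zero]
  | homogeneous m =>
    rw [U.ρ_of_mem m.2, ev_monomial, val_q, mul_assoc, ← mul_pow, τ_mul_t, one_pow, mul_one]
  | add m m' h1 h2 => rw [map_add, map_add, map_add, h1, h2]

/-- the elements of `A_(p)[X]` becoming units in `A_p` -/
def M : Submonoid (AtPrime 𝒜 p)[X] := (IsUnit.submonoid (Localization.AtPrime p)).comap U.ev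

theorem ρ_mem_M {y : A} (hy : y ∉ p) : U.ρ y ∈ U.M := by
  show IsUnit (U.ev (U.ρ y))
  rw [ev_ρ]
  exact IsLocalization.map_units (Localization.AtPrime p) (⟨y, hy⟩ : p.primeCompl)

theorem key (l : (AtPrime 𝒜 p)[X]) : ∃ y z : A, y ∉ p ∧ U.ρ z = U.ρ y * l := by
  induction l using Polynomial.induction_on' with
  | add l₁ l₂ h1 h2 =>
    obtain ⟨y₁, z₁, hy₁, e₁⟩ := h1
    obtain ⟨y₂, z₂, hy₂, e₂⟩ := h2
    refine ⟨y₁ * y₂, y₂ * z₁ + y₁ * z₂, fun h => (hp.mem_or_mem h).elim hy₁ hy₂, ?_⟩
    rw [map_add, map_mul, map_mul, map_mul, e₁, e₂]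
    ring
  | monomial n c =>
    obtain ⟨⟨k, a, s, hs⟩, rfl⟩ := HomogeneousLocalization.mk_surjective c
    have hfn : U.f ^ n ∈ 𝒜 (n • U.d) := SetLike.pow_mem_graded n U.hf
    have hgn : U.g ^ n ∈ 𝒜 (n • (U.d + 1)) := SetLike.pow_mem_graded n U.hg
    have hy : U.f ^ n * (s : A) ∈ 𝒜 (n • U.d + k) := SetLike.mul_mem_graded hfn s.2
    have hz0 : (a : A) * U.g ^ n ∈ 𝒜 (k + n • (U.d + 1)) := SetLike.mul_mem_graded a.2 hgn
    have hz : (a : A) * U.g ^ n ∈ 𝒜 (n • U.d + k + n) := by
      have e : k + n • (U.d + 1) = n • U.d + k + n := by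
        simp only [smul_eq_mul]; ring
      exact e ▸ hz0
    refine ⟨U.f ^ n * (s : A), (a : A) * U.g ^ n, ?_, ?_⟩
    · intro h
      rcases hp.mem_or_mem h with h | h
      · exact U.hfp (hp.mem_of_pow_mem n h)
      · exact hs h
    · rw [U.ρ_of_mem hz, U.ρ_of_mem hy, Polynomial.monomial_mul_monomial]
      congr 1
      apply HomogeneousLocalization.val_injective
      rw [HomogeneousLocalization.val_mul, val_q, val_q, HomogeneousLocalization.val_mk]
      simp only [map_mul, map_pow]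
      have h1 := U.g_mul_τ
      have h2 := den_mul_mk (p := p) (a : A) (s : A) hs
      rw [pow_add, ← h2]
      have h3 : algebraMap A (Localization.AtPrime p) U.g ^ n * U.τ ^ n =
          algebraMap A (Localization.AtPrime p) U.f ^ n := by
        rw [← mul_pow, h1]
      calc algebraMap A (Localization.AtPrime p) (s : A) * Localization.mk (a : A) ⟨(s : A), hs⟩ *
            algebraMap A (Localization.AtPrime p) U.g ^ n * (U.τ ^ (n • U.d + k) * U.τ ^ n)
          = algebraMap A (Localization.AtPrime p) (s : A) * Localization.mk (a : A) ⟨(s : A), hs⟩ *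
            (algebraMap A (Localization.AtPrime p) U.g ^ n * U.τ ^ n) * U.τ ^ (n • U.d + k) := by
            ring
        _ = _ := by rw [h3]; ring

theorem isLocalization :
    @IsLocalization (AtPrime 𝒜 p)[X] _ U.M (Localization.AtPrime p) _ U.ev.toAlgebra := by
  letI : Algebra (AtPrime 𝒜 p)[X] (Localization.AtPrime p) := U.ev.toAlgebra
  have halg : ∀ l, algebraMap (AtPrime 𝒜 p)[X] (Localization.AtPrime p) l = U.ev l := fun _ => rfl
  refine ⟨?_, ?_, ?_⟩
  · rintro ⟨y, hy⟩
    exact hy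
  · intro z
    obtain ⟨⟨a, u⟩, h⟩ := IsLocalization.surj p.primeCompl z
    refine ⟨⟨U.ρ a, ⟨U.ρ (u : A), U.ρ_mem_M u.2⟩⟩, ?_⟩
    show z * algebraMap (AtPrime 𝒜 p)[X] (Localization.AtPrime p) (U.ρ (u : A)) =
      algebraMap (AtPrime 𝒜 p)[X] (Localization.AtPrime p) (U.ρ a)
    rw [halg, halg, ev_ρ, ev_ρ]
    exact h
  · intro x y hxy
    rw [halg, halg] at hxy
    obtain ⟨y', z, hy', e⟩ := U.key (x - y)
    have h0 : algebraMap A (Localization.AtPrime p) z = 0 := by
      rw [← U.ev_ρ z, e, map_mul, map_sub, hxy, sub_self, mul_zero]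
    obtain ⟨m, hm⟩ := (IsLocalization.map_eq_zero_iff p.primeCompl (Localization.AtPrime p) z).mp h0
    refine ⟨⟨U.ρ ((m : A) * y'), U.ρ_mem_M (fun h => (hp.mem_or_mem h).elim m.2 hy')⟩, ?_⟩
    show U.ρ ((m : A) * y') * x = U.ρ ((m : A) * y') * y
    rw [← sub_eq_zero, ← mul_sub, map_mul, mul_assoc, ← e, ← map_mul, hm, map_zero]

end UData

instance isLocalHom_val :
    IsLocalHom (algebraMap (AtPrime 𝒜 p) (Localization.AtPrime p)) :=
  ⟨fun a ha => (HomogeneousLocalization.isUnit_iff_isUnit_val 𝒜 p a).mp ha⟩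

variable {𝒜 p}

theorem UData.flat (U : UData 𝒜 p) : Module.Flat (AtPrime 𝒜 p) (Localization.AtPrime p) := by
  letI : Algebra (AtPrime 𝒜 p)[X] (Localization.AtPrime p) := U.ev.toAlgebra
  haveI : IsScalarTower (AtPrime 𝒜 p) (AtPrime 𝒜 p)[X] (Localization.AtPrime p) :=
    IsScalarTower.of_algebraMap_eq (fun c => by
      show algebraMap (AtPrime 𝒜 p) (Localization.AtPrime p) c = U.ev (Polynomial.C c)
      rw [ev, Polynomial.coe_eval₂RingHom, Polynomial.eval₂_C])
  haveI : IsLocalization U.M (Localization.AtPrime p) := U.isLocalization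
  haveI : Module.Flat (AtPrime 𝒜 p)[X] (Localization.AtPrime p) :=
    IsLocalization.flat (Localization.AtPrime p) U.M
  exact Module.Flat.trans (AtPrime 𝒜 p) (AtPrime 𝒜 p)[X] (Localization.AtPrime p)

theorem isNoetherianRing_of_udata [IsNoetherianRing A] (U : UData 𝒜 p) :
    IsNoetherianRing (AtPrime 𝒜 p) := by
  haveI := U.flat
  haveI : Module.FaithfullyFlat (AtPrime 𝒜 p) (Localization.AtPrime p) :=
    Module.FaithfullyFlat.of_flat_of_isLocalHom
  haveI : IsNoetherianRing (Localization.AtPrime p) :=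
    IsLocalization.isNoetherianRing p.primeCompl _ inferInstance
  apply Submodule.IsNoetherian.of_isNoetherian_tensorProduct_of_faithfullyFlat
    (R := AtPrime 𝒜 p) (M := AtPrime 𝒜 p) (A := Localization.AtPrime p)
  exact isNoetherian_of_linearEquiv
    (TensorProduct.AlgebraTensorModule.rid (AtPrime 𝒜 p) (Localization.AtPrime p)
      (Localization.AtPrime p)).symm

theorem gor_of_udata (hA : LocCoh.IsGorensteinRing A) (U : UData 𝒜 p) :
    LocCoh.IsGorensteinLocalRing (AtPrime 𝒜 p) := by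
  haveI := hA
  haveI : IsNoetherianRing A := inferInstance
  haveI := U.flat
  haveI := isNoetherianRing_of_udata U
  haveI : IsNoetherianRing (Localization.AtPrime p) :=
    IsLocalization.isNoetherianRing p.primeCompl _ inferInstance
  exact ((Groth.Agent.Helper8.GorFlat.isGorensteinLocalRing_iff_of_flat (AtPrime 𝒜 p)
    (Localization.AtPrime p)).mp (hA.isGorensteinLocalRing_localization p)).1

end Groth.Agent.Lib.Helper6.HLoc
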