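import Mathlib
import Groth.Agent.Lib.Helper6.HLoc.HLa

set_option autoImplicit false
set_option linter.unusedSectionVars false
set_option linter.unusedVariables false
set_option linter.unusedSimpArgs false
set_option linter.style.haveILetI false
set_option linter.overlappingInstances false
set_option maxHeartbeats 800000

/-!
# Condition (#) gives homogeneous elements of consecutive degrees outside a relevant prime
-/

open HomogeneousLocalization AlgebraicGeometry Pointwise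

universe u

noncomputable section

namespace Groth.Agent.Lib.Helper6.HLoc

variable {A : Type u} [CommRing A] (𝒜 : ℕ → AddSubgroup A) [GradedRing 𝒜]

/-- a homogeneous element of positive degree outside a relevant homogeneous prime -/
theorem exists_pos_homogeneous_not_mem (P : HomogeneousIdeal 𝒜)
    (hrel : ¬ HomogeneousIdeal.irrelevant 𝒜 ≤ P) :
    ∃ (e : ℕ) (h : A), 0 < e ∧ h ∈ 𝒜 e ∧ h ∉ P.toIdeal := by
  classical
  by_contra hcon
  push Not at hcon
  apply hrel
  intro a ha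
  have ha0 : GradedRing.proj 𝒜 0 a = 0 := (HomogeneousIdeal.mem_irrelevant_iff 𝒜 a).mp ha
  show a ∈ P.toIdeal
  rw [← DirectSum.sum_support_decompose 𝒜 a]
  refine Ideal.sum_mem _ (fun i _ => ?_)
  rcases Nat.eq_zero_or_pos i with h0 | hpos
  · subst h0
    have : ((DirectSum.decompose 𝒜 a 0 : 𝒜 0) : A) = 0 := ha0
    rw [this]
    exact zero_mem _
  · exact hcon i _ hpos (SetLike.coe_mem _)

variable {𝒜}

theorem exists_udata_of_sharp
    (hsharp : ∃ d₀ : ℕ, ∀ d : ℕ, d₀ ≤ d → ∀ n : ℕ, 1 ≤ n →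
      𝒜 ((n + 1) * d) = AddSubgroup.closure ((𝒜 d : Set A) * (𝒜 (n * d) : Set A)))
    (P : HomogeneousIdeal 𝒜) [hp : P.toIdeal.IsPrime]
    (hrel : ¬ HomogeneousIdeal.irrelevant 𝒜 ≤ P) : Nonempty (UData 𝒜 P.toIdeal) := by
  obtain ⟨d₀, hd₀⟩ := hsharp
  obtain ⟨e, h, he, hh, hhP⟩ := exists_pos_homogeneous_not_mem 𝒜 P hrel
  have key : ∀ d : ℕ, d₀ ≤ d → ∃ f ∈ 𝒜 d, f ∉ P.toIdeal := by
    intro d hd
    by_contra hcon
    push Not at hcon
    have hpow : h ^ d ∈ 𝒜 (d • e) := SetLike.pow_mem_graded d hh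
    have hnot : h ^ d ∉ P.toIdeal := fun hm => hhP (hp.mem_of_pow_mem d hm)
    apply hnot
    obtain ⟨n, rfl⟩ : ∃ n, e = n + 1 := ⟨e - 1, by omega⟩
    rcases Nat.eq_zero_or_pos n with h0 | hn
    · subst h0
      have : d • (0 + 1) = d := by simp
      rw [this] at hpow
      exact hcon _ hpow
    · have e1 : d • (n + 1) = (n + 1) * d := by rw [smul_eq_mul, mul_comm]
      rw [e1, hd₀ d hd n hn] at hpow
      have hle : AddSubgroup.closure ((𝒜 d : Set A) * (𝒜 (n * d) : Set A)) ≤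
          P.toIdeal.toAddSubgroup := by
        rw [AddSubgroup.closure_le]
        rintro _ ⟨a, ha, b, hb, rfl⟩
        exact Ideal.mul_mem_right b _ (hcon a ha)
      exact hle hpow
  obtain ⟨f, hf, hfP⟩ := key (max d₀ 1) (le_max_left _ _)
  obtain ⟨g, hg, hgP⟩ := key (max d₀ 1 + 1) (le_trans (le_max_left _ _) (Nat.le_succ _))
  exact ⟨⟨max d₀ 1, f, g, hf, hg, hfP, hgP⟩⟩

/-- **Proj of a Gorenstein graded ring satisfying (#) is Gorenstein.** -/
theorem gor_stalk_proj_of_sharp [hA : LocCoh.IsGorensteinRing A]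
    (hsharp : ∃ d₀ : ℕ, ∀ d : ℕ, d₀ ≤ d → ∀ n : ℕ, 1 ≤ n →
      𝒜 ((n + 1) * d) = AddSubgroup.closure ((𝒜 d : Set A) * (𝒜 (n * d) : Set A)))
    (x : Proj 𝒜) : LocCoh.IsGorensteinLocalRing ((Proj 𝒜).presheaf.stalk x) := by
  obtain ⟨U⟩ := exists_udata_of_sharp hsharp x.asHomogeneousIdeal x.not_irrelevant_le
  have h := gor_of_udata hA U
  exact Groth.Agent.Helper8.GorFlat.isGorensteinLocalRing_of_ringEquiv
    (Proj.stalkIso' 𝒜 x).symm h

end Groth.Agent.Lib.Helper6.HLoc
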